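import Cfsg.Agent.Lib.SmallSimple.Sieve3640.Base

/-!
# The sieve from 1093 to 1416
-/

namespace Cfsg.Agent.SmallSimple.Sieve3640

/-- Certificates from 1093 to 1416. -/
def cert0 : List ℕ :=
  [1093, 547, 73, 137, 1097, 61, 157, 11, 367, 29, 1103, 23, 17, 79, 41, 277,
  1109, 37, 101, 139, 53, 557, 223, 31, 1117, 43, 373, 7, 59, 17, 1123, 281,
  5, 563, 23, 47, 1129, 113, 29, 283, 103, 7, 227, 71, 379, 569, 67, 5,
  163, 571, 127, 13, 229, 191, 37, 41, 383, 23, 1151, 2, 1153, 577, 11, 17,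
  89, 193, 61, 29, 43, 83, 1163, 97, 233, 53, 389, 73, 167, 13, 1171, 293,
  23, 587, 47, 7, 107, 31, 131, 59, 1181, 197, 13, 37, 79, 593, 1187, 11,
  41, 5, 397, 149, 1193, 199, 239, 23, 19, 599, 109, 5, 1201, 601, 401, 43,
  241, 67, 71, 151, 31, 11, 173, 101, 1213, 607, 5, 19, 1217, 29, 53, 61,
  37, 47, 1223, 0, 7, 613, 409, 307, 1229, 41, 1231, 7, 137, 617, 19, 103,
  1237, 619, 59, 31, 73, 23, 113, 311, 83, 89, 43, 13, 1249, 5, 139, 313,
  179, 19, 251, 157, 419, 37, 1259, 7, 97, 631, 421, 79, 23, 211, 181, 317,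
  47, 127, 41, 53, 67, 13, 17, 29, 1277, 71, 1279, 5, 61, 641, 1283, 107,
  257, 643, 13, 23, 1289, 43, 1291, 19, 431, 647, 37, 3, 1297, 59, 433, 13,
  1301, 31, 1303, 163, 29, 653, 1307, 109, 17, 131, 23, 41, 101, 73, 263, 47,
  439, 659, 1319, 11, 1321, 661, 7, 331, 53, 17, 1327, 83, 443, 19, 11, 37,
  43, 29, 89, 167, 191, 223, 103, 67, 149, 61, 79, 0, 269, 673, 449, 337,
  71, 5, 193, 13, 41, 677, 271, 113, 59, 97, 151, 17, 1361, 227, 47, 31,
  13, 683, 1367, 19, 37, 137, 457, 7, 1373, 229, 11, 43, 17, 53, 197, 23,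
  1381, 691, 461, 173, 277, 11, 73, 347, 463, 139, 107, 29, 199, 41, 31, 349,
  127, 233, 1399, 5, 467, 701, 61, 0, 281, 37, 67, 11, 1409, 47, 83, 353,
  157, 101, 283, 59]

set_option maxRecDepth 100000 in
set_option maxHeartbeats 4000000 in
theorem covers0 : Covers 1093 cert0 := by
  decide +kernel

theorem length0 : cert0.length = 324 := by
  decide +kernel

end Cfsg.Agent.SmallSimple.Sieve3640
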