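import Cfsg.Agent.Lib.SmallSimple.Sieve3640.Base

/-!
# The sieve from 1417 to 1740
-/

namespace Cfsg.Agent.SmallSimple.Sieve3640

/-- Certificates from 1417 to 1740. -/
def cert1 : List ℕ :=
  [109, 709, 43, 71, 29, 79, 1423, 89, 19, 31, 1427, 17, 1429, 13, 53, 179,
  1433, 239, 41, 359, 479, 719, 1439, 0, 131, 103, 37, 19, 17, 241, 1447, 181,
  23, 29, 1451, 11, 1453, 727, 97, 13, 47, 3, 1459, 73, 487, 43, 19, 61,
  293, 733, 163, 367, 113, 7, 1471, 23, 491, 67, 59, 41, 211, 739, 29, 37,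
  1481, 13, 1483, 53, 11, 743, 1487, 31, 1489, 149, 71, 373, 1493, 83, 23, 17,
  499, 107, 1499, 5, 79, 751, 167, 47, 43, 251, 137, 29, 503, 151, 1511, 0,
  89, 757, 101, 379, 41, 23, 31, 19, 13, 761, 1523, 127, 61, 109, 509, 191,
  139, 17, 1531, 383, 73, 59, 307, 2, 53, 769, 19, 11, 67, 257, 1543, 193,
  103, 773, 17, 43, 1549, 31, 47, 97, 1553, 37, 311, 389, 173, 41, 1559, 0,
  223, 71, 521, 23, 313, 29, 1567, 7, 523, 157, 1571, 131, 13, 787, 5, 197,
  83, 263, 1579, 79, 31, 113, 1583, 11, 317, 61, 23, 397, 227, 53, 43, 199,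
  59, 797, 29, 19, 1597, 47, 41, 5, 1601, 89, 229, 401, 107, 73, 1607, 67,
  1609, 23, 179, 31, 1613, 269, 19, 101, 11, 809, 1619, 0, 1621, 811, 541, 29,
  13, 271, 1627, 37, 181, 163, 233, 17, 71, 43, 109, 409, 1637, 13, 149, 41,
  547, 821, 53, 137, 47, 823, 61, 103, 97, 11, 127, 59, 29, 827, 331, 23,
  1657, 829, 79, 83, 151, 277, 1663, 13, 37, 17, 1667, 139, 1669, 167, 557, 19,
  239, 31, 67, 419, 43, 839, 73, 0, 41, 29, 17, 421, 337, 281, 241, 211,
  563, 13, 89, 47, 1693, 11, 113, 53, 1697, 283, 1699, 17, 7, 37, 131, 71,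
  31, 853, 569, 61, 1709, 19, 59, 107, 571, 857, 7, 0, 101, 859, 191, 43,
  1721, 41, 1723, 431, 23, 863, 157, 0, 19, 173, 577, 433, 1733, 17, 347, 31,
  193, 79, 47, 5]

set_option maxRecDepth 100000 in
set_option maxHeartbeats 4000000 in
theorem covers1 : Covers 1417 cert1 := by
  decide +kernel

theorem length1 : cert1.length = 324 := by
  decide +kernel

end Cfsg.Agent.SmallSimple.Sieve3640
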