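import Cfsg.Agent.Lib.SmallSimple.Sieve3640.Base

/-!
# The sieve from 1741 to 2064
-/

namespace Cfsg.Agent.SmallSimple.Sieve3640

/-- Certificates from 1741 to 2064. -/
def cert2 : List ℕ :=
  [1741, 67, 83, 109, 349, 97, 1747, 23, 53, 7, 103, 73, 1753, 877, 13, 439,
  251, 293, 1759, 11, 587, 881, 43, 7, 353, 883, 31, 13, 61, 59, 23, 443,
  197, 887, 71, 37, 1777, 127, 593, 89, 137, 11, 1783, 223, 17, 47, 1787, 149,
  1789, 179, 199, 2, 163, 23, 359, 449, 599, 31, 257, 0, 1801, 53, 601, 41,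
  19, 43, 139, 113, 67, 181, 1811, 151, 37, 907, 11, 227, 79, 101, 107, 13,
  607, 911, 1823, 19, 73, 83, 29, 457, 59, 61, 1831, 229, 47, 131, 367, 17,
  167, 919, 613, 23, 263, 307, 97, 461, 41, 71, 1847, 11, 43, 37, 617, 463,
  109, 103, 53, 29, 619, 929, 13, 31, 1861, 19, 23, 233, 373, 311, 1867, 467,
  89, 17, 1871, 13, 1873, 937, 5, 67, 1877, 313, 1879, 47, 19, 941, 269, 157,
  29, 41, 37, 59, 1889, 2, 61, 43, 631, 947, 379, 79, 271, 73, 211, 19,
  1901, 317, 173, 17, 127, 953, 1907, 53, 83, 191, 13, 239, 1913, 29, 383, 479,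
  71, 137, 101, 2, 113, 31, 641, 37, 11, 107, 47, 241, 643, 193, 1931, 23,
  1933, 967, 43, 11, 149, 19, 277, 97, 647, 971, 67, 3, 389, 139, 59, 487,
  1949, 13, 1951, 61, 31, 977, 23, 163, 103, 89, 653, 7, 53, 109, 151, 491,
  131, 983, 281, 41, 179, 197, 73, 29, 1973, 47, 79, 19, 659, 43, 1979, 0,
  283, 991, 661, 31, 397, 331, 1987, 71, 17, 199, 181, 83, 1993, 997, 19, 499,
  1997, 37, 1999, 5, 29, 13, 2003, 167, 401, 59, 223, 251, 41, 67, 2011, 503,
  61, 53, 31, 0, 2017, 1009, 673, 101, 47, 337, 17, 23, 5, 1013, 2027, 13,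
  2029, 29, 677, 127, 107, 113, 37, 509, 97, 1019, 2039, 17, 157, 1021, 227, 73,
  409, 31, 89, 2, 683, 41, 293, 19, 2053, 79, 137, 257, 17, 7, 71, 103,
  229, 1031, 2063, 43]

set_option maxRecDepth 100000 in
set_option maxHeartbeats 4000000 in
theorem covers2 : Covers 1741 cert2 := by
  decide +kernel

theorem length2 : cert2.length = 324 := by
  decide +kernel

end Cfsg.Agent.SmallSimple.Sieve3640
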