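import Cfsg.Agent.Lib.SmallSimple.Sieve3640.Base

/-!
# The sieve from 2065 to 2388
-/

namespace Cfsg.Agent.SmallSimple.Sieve3640

/-- Certificates from 2065 to 2388. -/
def cert3 : List ℕ :=
  [59, 1033, 53, 47, 2069, 23, 109, 37, 691, 61, 83, 173, 67, 1039, 11, 0,
  2081, 347, 2083, 521, 139, 149, 2087, 29, 2089, 19, 41, 523, 23, 349, 419, 131,
  233, 1049, 2099, 0, 191, 1051, 701, 263, 421, 3, 43, 31, 37, 211, 2111, 11,
  2113, 151, 47, 23, 73, 353, 163, 53, 101, 1061, 193, 59, 17, 1063, 709, 19,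
  2129, 71, 2131, 41, 79, 97, 61, 89, 2137, 1069, 31, 107, 2141, 17, 2143, 67,
  13, 37, 113, 179, 307, 43, 239, 269, 2153, 359, 431, 11, 719, 83, 127, 0,
  2161, 47, 103, 541, 433, 19, 197, 271, 241, 31, 167, 181, 53, 1087, 29, 17,
  311, 11, 2179, 109, 727, 1091, 59, 13, 23, 1093, 3, 547, 199, 73, 313, 137,
  43, 1097, 439, 61, 13, 157, 733, 5, 71, 367, 2203, 29, 7, 1103, 2207, 23,
  47, 17, 67, 79, 2213, 41, 443, 277, 739, 1109, 317, 37, 2221, 101, 13, 139,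
  89, 53, 131, 557, 743, 223, 97, 31, 29, 1117, 149, 43, 2237, 373, 2239, 7,
  83, 59, 2243, 17, 449, 1123, 107, 281, 173, 5, 2251, 563, 751, 23, 41, 47,
  61, 1129, 251, 113, 19, 29, 73, 283, 151, 103, 2267, 0, 2269, 227, 757, 71,
  2273, 379, 13, 569, 23, 67, 53, 19, 2281, 163, 761, 571, 457, 127, 2287, 13,
  109, 229, 79, 191, 2293, 37, 17, 41, 2297, 383, 19, 23, 59, 1151, 47, 2,
  461, 1153, 769, 577, 2309, 11, 2311, 17, 257, 89, 463, 193, 331, 61, 773, 29,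
  211, 43, 101, 83, 31, 1163, 179, 97, 137, 233, 37, 53, 2333, 389, 467, 73,
  41, 167, 2339, 13, 2341, 1171, 71, 293, 67, 23, 2347, 587, 29, 47, 2351, 7,
  181, 107, 157, 31, 2357, 131, 337, 59, 787, 1181, 139, 197, 43, 13, 263, 37,
  103, 79, 2371, 593, 113, 1187, 19, 11, 2377, 41, 61, 5, 2381, 397, 2383, 149,
  53, 1193, 31, 199]

set_option maxRecDepth 100000 in
set_option maxHeartbeats 4000000 in
theorem covers3 : Covers 2065 cert3 := by
  decide +kernel

theorem length3 : cert3.length = 324 := by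
  decide +kernel

end Cfsg.Agent.SmallSimple.Sieve3640
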