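import Cfsg.Agent.Lib.SmallSimple.Sieve3640.Base

/-!
# The sieve from 2389 to 2712
-/

namespace Cfsg.Agent.SmallSimple.Sieve3640

/-- Certificates from 2389 to 2712. -/
def cert4 : List ℕ :=
  [2389, 239, 797, 23, 2393, 19, 479, 599, 47, 109, 2399, 0, 7, 1201, 89, 601,
  37, 401, 83, 43, 73, 241, 2411, 67, 127, 71, 23, 151, 2417, 31, 59, 11,
  269, 173, 2423, 101, 97, 1213, 809, 607, 347, 3, 17, 19, 811, 1217, 487, 29,
  2437, 53, 271, 61, 2441, 37, 349, 47, 163, 1223, 2447, 0, 79, 5, 43, 613,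
  223, 409, 491, 307, 13, 1229, 2459, 41, 107, 1231, 821, 0, 29, 137, 2467, 617,
  823, 19, 353, 103, 2473, 1237, 5, 619, 2477, 59, 67, 31, 827, 73, 191, 23,
  71, 113, 829, 311, 131, 83, 53, 89, 277, 43, 499, 13, 227, 1249, 17, 5,
  61, 139, 2503, 313, 167, 179, 109, 19, 193, 251, 31, 157, 359, 419, 503, 37,
  839, 1259, 229, 0, 2521, 97, 29, 631, 101, 421, 19, 79, 281, 23, 2531, 211,
  149, 181, 13, 317, 59, 47, 2539, 127, 11, 41, 2543, 53, 509, 67, 283, 13,
  2549, 17, 2551, 29, 37, 1277, 73, 71, 2557, 1279, 853, 2, 197, 61, 233, 641,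
  19, 1283, 151, 107, 367, 257, 857, 643, 83, 11, 103, 23, 859, 1289, 2579, 43,
  89, 1291, 41, 19, 47, 431, 199, 647, 863, 37, 2591, 3, 2593, 1297, 173, 59,
  53, 433, 113, 13, 17, 1301, 137, 31, 521, 1303, 79, 163, 2609, 29, 373, 653,
  67, 1307, 523, 109, 2617, 17, 97, 131, 2621, 23, 61, 41, 7, 101, 71, 73,
  239, 263, 877, 47, 2633, 439, 31, 659, 293, 1319, 29, 11, 139, 1321, 881, 661,
  23, 7, 2647, 331, 883, 53, 241, 17, 379, 1327, 59, 83, 2657, 443, 2659, 19,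
  887, 11, 2663, 37, 41, 43, 127, 29, 157, 89, 2671, 167, 11, 191, 107, 223,
  2677, 103, 47, 67, 383, 149, 2683, 61, 179, 79, 2687, 0, 2689, 269, 23, 673,
  2693, 449, 11, 337, 31, 71, 2699, 0, 73, 193, 53, 13, 541, 41, 2707, 677,
  43, 271, 2711, 113]

set_option maxRecDepth 100000 in
set_option maxHeartbeats 4000000 in
theorem covers4 : Covers 2389 cert4 := by
  decide +kernel

theorem length4 : cert4.length = 324 := by
  decide +kernel

end Cfsg.Agent.SmallSimple.Sieve3640
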