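import Cfsg.Agent.Lib.SmallSimple.Sieve3640.Base

/-!
# The sieve from 2713 to 3036
-/

namespace Cfsg.Agent.SmallSimple.Sieve3640

/-- Certificates from 2713 to 3036. -/
def cert5 : List ℕ :=
  [2713, 59, 181, 97, 19, 151, 2719, 17, 907, 1361, 389, 227, 109, 47, 101, 31,
  2729, 2, 2731, 683, 911, 1367, 547, 19, 23, 37, 83, 137, 2741, 457, 211, 7,
  61, 1373, 67, 229, 2749, 11, 131, 43, 2753, 17, 29, 53, 919, 197, 89, 23,
  251, 1381, 307, 691, 79, 461, 2767, 173, 71, 277, 163, 11, 59, 73, 37, 347,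
  2777, 463, 397, 139, 103, 107, 23, 29, 557, 199, 929, 41, 2789, 31, 2791, 349,
  19, 127, 43, 233, 2797, 1399, 311, 5, 2801, 467, 2803, 701, 17, 61, 401, 13,
  53, 281, 937, 19, 97, 67, 563, 11, 313, 1409, 2819, 47, 31, 83, 941, 353,
  113, 157, 257, 101, 41, 283, 149, 59, 2833, 109, 5, 709, 2837, 43, 167, 71,
  947, 29, 2843, 79, 569, 1423, 73, 89, 37, 19, 2851, 31, 317, 1427, 571, 17,
  2857, 1429, 953, 13, 2861, 53, 409, 179, 191, 1433, 61, 239, 151, 41, 29, 359,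
  17, 479, 23, 719, 137, 1439, 2879, 0, 67, 131, 31, 103, 577, 37, 2887, 19,
  107, 17, 59, 241, 263, 1447, 193, 181, 2897, 23, 223, 29, 967, 1451, 2903, 11,
  83, 1453, 19, 727, 2909, 97, 71, 13, 971, 47, 53, 3, 2917, 1459, 139, 73,
  127, 487, 79, 43, 13, 7, 2927, 61, 101, 293, 977, 733, 419, 163, 587, 367,
  89, 113, 2939, 7, 173, 1471, 109, 23, 31, 491, 421, 67, 983, 59, 227, 41,
  2953, 211, 197, 739, 2957, 29, 269, 37, 47, 1481, 2963, 19, 593, 1483, 43, 53,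
  2969, 2, 2971, 743, 991, 1487, 17, 0, 229, 1489, 331, 149, 271, 71, 157, 373,
  199, 1493, 103, 83, 61, 23, 997, 17, 73, 499, 599, 107, 37, 1499, 2999, 5,
  3001, 79, 13, 751, 601, 167, 97, 47, 59, 43, 3011, 251, 131, 137, 67, 29,
  431, 503, 3019, 151, 53, 1511, 3023, 0, 11, 89, 1009, 757, 233, 101, 433, 379,
  337, 41, 607, 23]

set_option maxRecDepth 100000 in
set_option maxHeartbeats 4000000 in
theorem covers5 : Covers 2713 cert5 := by
  decide +kernel

theorem length5 : cert5.length = 324 := by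
  decide +kernel

end Cfsg.Agent.SmallSimple.Sieve3640
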