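import Cfsg.Agent.Lib.SmallSimple.Sieve3640.Base

/-!
# The sieve from 3037 to 3360
-/

namespace Cfsg.Agent.SmallSimple.Sieve3640

/-- Certificates from 3037 to 3360. -/
def cert6 : List ℕ :=
  [3037, 31, 1013, 19, 3041, 13, 179, 761, 29, 1523, 277, 127, 3049, 61, 113, 109,
  71, 509, 47, 191, 1019, 139, 23, 17, 3061, 1531, 1021, 383, 613, 73, 3067, 59,
  31, 307, 83, 2, 439, 53, 41, 769, 181, 19, 3079, 7, 79, 67, 3083, 257,
  617, 1543, 7, 193, 3089, 103, 281, 773, 1031, 17, 619, 43, 163, 1549, 1033, 31,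
  443, 47, 107, 97, 23, 1553, 239, 37, 3109, 311, 61, 389, 283, 173, 89, 41,
  1039, 1559, 3119, 0, 3121, 223, 347, 71, 5, 521, 59, 23, 149, 313, 101, 29,
  241, 1567, 19, 7, 3137, 523, 73, 157, 349, 1571, 449, 131, 37, 13, 1049, 787,
  67, 2, 137, 197, 1051, 83, 631, 263, 41, 1579, 3, 79, 109, 31, 3163, 113,
  211, 1583, 3167, 0, 3169, 317, 151, 61, 167, 23, 127, 397, 353, 227, 17, 53,
  3181, 43, 1061, 199, 13, 59, 3187, 797, 1063, 29, 3191, 19, 103, 1597, 71, 47,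
  139, 41, 457, 5, 97, 1601, 3203, 89, 641, 229, 1069, 401, 3209, 107, 19, 73,
  17, 1607, 643, 67, 3217, 1609, 37, 7, 3221, 179, 293, 31, 43, 1613, 461, 269,
  3229, 19, 359, 101, 61, 11, 647, 809, 83, 1619, 79, 0, 463, 1621, 47, 811,
  59, 541, 191, 29, 19, 13, 3251, 271, 3253, 1627, 31, 37, 3257, 181, 3259, 163,
  1087, 233, 251, 17, 653, 71, 11, 43, 467, 109, 3271, 409, 1091, 1637, 131, 13,
  113, 149, 1093, 41, 193, 547, 67, 821, 73, 53, 173, 137, 23, 47, 1097, 823,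
  89, 61, 659, 103, 157, 97, 3299, 11, 3301, 127, 367, 59, 661, 29, 3307, 827,
  1103, 331, 43, 23, 3313, 1657, 17, 829, 107, 79, 3319, 83, 41, 151, 3323, 277,
  19, 1663, 1109, 13, 3329, 37, 3331, 17, 101, 1667, 29, 139, 71, 1669, 53, 167,
  257, 557, 3343, 19, 223, 239, 3347, 31, 197, 67, 1117, 419, 479, 43, 61, 839,
  373, 73, 3359, 0]

set_option maxRecDepth 100000 in
set_option maxHeartbeats 4000000 in
theorem covers6 : Covers 3037 cert6 := by
  decide +kernel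

theorem length6 : cert6.length = 324 := by
  decide +kernel

end Cfsg.Agent.SmallSimple.Sieve3640
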