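import Cfsg.Agent.Lib.SmallSimple.Sieve3640.Base

/-!
# The sieve from 3361 to 3640
-/

namespace Cfsg.Agent.SmallSimple.Sieve3640

/-- Certificates from 3361 to 3640. -/
def cert7 : List ℕ :=
  [3361, 41, 59, 29, 673, 17, 37, 421, 1123, 337, 3371, 281, 3373, 241, 5, 211,
  307, 563, 109, 13, 23, 89, 199, 47, 677, 1693, 1129, 11, 3389, 113, 3391, 53,
  29, 1697, 97, 283, 79, 1699, 103, 17, 179, 3, 83, 37, 227, 131, 3407, 71,
  487, 31, 379, 853, 3413, 569, 683, 61, 67, 1709, 263, 0, 311, 59, 163, 107,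
  137, 571, 149, 857, 127, 7, 73, 0, 3433, 101, 229, 859, 491, 191, 181, 43,
  37, 1721, 313, 0, 53, 1723, 383, 431, 3449, 23, 29, 863, 1151, 157, 691, 2,
  3457, 19, 1153, 173, 3461, 577, 3463, 433, 11, 1733, 3467, 17, 3469, 347, 89, 31,
  151, 193, 139, 79, 61, 47, 71, 29, 59, 1741, 43, 67, 41, 83, 317, 109,
  1163, 349, 3491, 97, 499, 1747, 233, 23, 269, 53, 3499, 5, 389, 103, 113, 73,
  701, 1753, 167, 877, 29, 2, 3511, 439, 1171, 251, 37, 293, 3517, 1759, 23, 11,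
  503, 587, 271, 881, 47, 43, 3527, 7, 3529, 353, 107, 883, 3533, 31, 101, 13,
  131, 61, 3539, 59, 3541, 23, 1181, 443, 709, 197, 3547, 887, 13, 71, 67, 37,
  19, 1777, 79, 127, 3557, 593, 3559, 89, 1187, 137, 509, 11, 31, 1783, 41, 223,
  83, 2, 3571, 47, 397, 1787, 13, 149, 73, 1789, 1193, 179, 3581, 199, 3583, 2,
  239, 163, 211, 23, 97, 359, 19, 449, 3593, 599, 719, 31, 109, 257, 61, 0,
  277, 1801, 1201, 53, 103, 601, 3607, 41, 401, 19, 157, 43, 3613, 139, 241, 113,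
  3617, 67, 47, 181, 71, 1811, 3623, 151, 29, 37, 31, 907, 191, 11, 3631, 227,
  173, 79, 727, 101, 3637, 107, 1213, 13]

set_option maxRecDepth 100000 in
set_option maxHeartbeats 4000000 in
theorem covers7 : Covers 3361 cert7 := by
  decide +kernel

theorem length7 : cert7.length = 280 := by
  decide +kernel

end Cfsg.Agent.SmallSimple.Sieve3640
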